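import Cfsg.Agent.Lib.Comp.Th.Base

set_option maxRecDepth 100000
set_option Elab.async false

namespace Cfsg.Lib.Comp.The

universe u

abbrev iv := Th.iv

noncomputable abbrev R : List (List ℕ × ℕ) := Th.RD

def L : List ℕ := [2,4,5,6,7]

end Cfsg.Lib.Comp.The
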