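import Cfsg.Agent.Lib.Comp.The.Base

set_option maxRecDepth 100000
set_option Elab.async false

namespace Cfsg.Lib.Comp.The

universe u

noncomputable def TF_R : List (List ℕ × ℕ) := [([1],1),
 ([3],1),
 ([4],1),
 ([5],1),
 ([1,5],1),
 ([1,4,3,4,3,4,3,4,3],0),
 ([3,5],1),
 ([4,5],2),
 ([6],6),
 ([7,1,6,1],0),
 ([7,3,6,3],0),
 ([6,4],1),
 ([5,7,5,7,7,5,6,6,6],0),
 ([8],2),
 ([9,1,8,1],0),
 ([9,3,8,3],0),
 ([9,4,8,4],0),
 ([9,5,8,5],0),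
 ([9,6,8,7,7],0),
 ([6,7],0),
 ([8,9],0)]

noncomputable def TF_n_8 : Net :=
 (Net.cons 1 (nat_lit 0x2)
 (Net.cons 1 (nat_lit 0x1)
 Net.nil))

noncomputable def TF_n : List Net := [Net.nil,
 Net.nil,
 Net.nil,
 Net.nil,
 Net.nil,
 Net.nil,
 Net.nil,
 Net.nil,
 TF_n_8,
 Net.rev TF_n_8]

theorem TF_n_ok : NetsOK 3 TF_n := netsOK_of (by decide +kernel)

theorem TF_n_rel : Rels (gp TF_n) TF_R := rels_of_relsB (k := 2) TF_n_ok (by norm_num) (by decide +kernel)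

theorem TF_fin : finB 3 TF_n [1,3,4,5,6,7,8,9] 3 (runH 3 TF_n (fun x p => ptInv (nth Net.nil TF_n x) p) iv TF_R [] ([1,3,4,5,6,7].map fun x => [x]) 0 []
  [1,5,9,13,17,21,80,52,56,60,64,68,72,76,80,72,76]
  (defsH 3 TF_n (ones 36) [8,9] (Nat.shiftLeft 1 0) 0)) = true := by decide +kernel

theorem TF_idx : Idx.{u} iv (TF_R ++ []) ([1,3,4,5,6,7].map fun x => [x]) [1,3,4,5,6,7,8,9] 3 :=
  Reach.idx TF_n_ok (reach_runH TF_n_ok (fun x p _ => ptInv_gp TF_n_ok x p) TF_n_rel (reach_defsH TF_n_ok _ _ _ _ _ _) _ _) TF_fin (by norm_num)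

end Cfsg.Lib.Comp.The
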