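import Cfsg.Agent.Lib.Comp.The.Base

set_option maxRecDepth 100000
set_option Elab.async false

namespace Cfsg.Lib.Comp.The

universe u

noncomputable def TH_R : List (List ℕ × ℕ) := [([4],1),
 ([5],1),
 ([4,5],2),
 ([6],6),
 ([6,4],1),
 ([5,7,5,7,7,5,6,6,6],0),
 ([8],2),
 ([9,4,8,4],0),
 ([9,5,8,5],0),
 ([9,6,8,7,7],0),
 ([6,7],0),
 ([8,9],0)]

noncomputable def TH_n_8 : Net :=
 (Net.cons 1 (nat_lit 0x2)
 (Net.cons 1 (nat_lit 0x1)
 Net.nil))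

noncomputable def TH_n : List Net := [Net.nil,
 Net.nil,
 Net.nil,
 Net.nil,
 Net.nil,
 Net.nil,
 Net.nil,
 Net.nil,
 TH_n_8,
 Net.rev TH_n_8]

theorem TH_n_ok : NetsOK 3 TH_n := netsOK_of (by decide +kernel)

theorem TH_n_rel : Rels (gp TH_n) TH_R := rels_of_relsB (k := 2) TH_n_ok (by norm_num) (by decide +kernel)

theorem TH_fin : finB 3 TH_n [4,5,6,7,8,9] 3 (runH 3 TH_n (fun x p => ptInv (nth Net.nil TH_n x) p) iv TH_R [] ([4,5,6,7].map fun x => [x]) 0 []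
  [1,5,9,13,44,24,28,32,36,40,44,36,40]
  (defsH 3 TH_n (ones 36) [8,9] (Nat.shiftLeft 1 0) 0)) = true := by decide +kernel

theorem TH_idx : Idx.{u} iv (TH_R ++ []) ([4,5,6,7].map fun x => [x]) [4,5,6,7,8,9] 3 :=
  Reach.idx TH_n_ok (reach_runH TH_n_ok (fun x p _ => ptInv_gp TH_n_ok x p) TH_n_rel (reach_defsH TH_n_ok _ _ _ _ _ _) _ _) TH_fin (by norm_num)

end Cfsg.Lib.Comp.The
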