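import Cfsg.Agent.Lib.Comp.The.W
import Cfsg.Agent.Lib.Comp.The.TC
import Cfsg.Agent.Lib.Comp.The.TD
import Cfsg.Agent.Lib.Comp.The.TE
import Cfsg.Agent.Lib.Comp.The.TF
import Cfsg.Agent.Lib.Comp.The.TG
import Cfsg.Agent.Lib.Comp.The.TH

set_option maxRecDepth 100000
set_option Elab.async false

namespace Cfsg.Lib.Comp.The

universe u

theorem c_ord : Ord.{u} iv TC_R [1,3,4,5,6,7] 258048 := (TC_idx.ord_step a_ord).of_cons (cons_of_subset (by decide +kernel))

theorem d_ord : Ord.{u} iv Th.RD Th.LD 211341312 :=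
  (TD_idx.ord_step c_ord).of_cons (((Cons.refl _ _).append ze).trans (cons_of_subset (by decide +kernel)))

theorem n_ord : Ord.{u} iv Th.RN Th.LN 634023936 := (TE_idx.ord_step d_ord).of_cons (cons_of_subset (by decide +kernel))

theorem k_ord : Ord.{u} iv Th.RC Th.LK 774144 := (TF_idx.ord_step c_ord).of_cons (cons_of_subset (by decide +kernel))

theorem z_ord : Ord.{u} iv Th.RC Th.LC 92897280 := (TG_idx.ord_step k_ord).of_cons (cons_of_subset (by decide +kernel))

theorem l_ord : Ord.{u} iv Th.RC [4,5,6,7,8,9] 1512 := (TH_idx.ord_step a_ord).of_cons (cons_of_subset (by decide +kernel))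

theorem rc : Cons.{u} iv Th.R Th.RC :=
  ((Cons.refl _ _).append ((cons_of_subset (by decide +kernel)).trans ze)).trans (cons_of_subset (by decide +kernel))

end Cfsg.Lib.Comp.The
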