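import Cfsg.Agent.Lib.Comp.The.Base

set_option maxRecDepth 100000
set_option Elab.async false

namespace Cfsg.Lib.Comp.The

universe u

noncomputable def TB_R : List (List ℕ × ℕ) := [([2],1),
 ([4],1),
 ([5],1),
 ([2,4],1),
 ([2,5],1),
 ([4,5],2),
 ([6],6),
 ([7,2,6,2],0),
 ([6,4],1),
 ([5,7,5,7,7,5,6,6,6],0),
 ([6,7],0)]

noncomputable def TB_n_2 : Net :=
 (Net.cons 1 (nat_lit 0x1)
 Net.nil)

noncomputable def TB_n : List Net := [Net.nil,
 Net.nil,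
 TB_n_2]

theorem TB_n_ok : NetsOK 2 TB_n := netsOK_of (by decide +kernel)

theorem TB_n_rel : Rels (gp TB_n) TB_R := rels_of_relsB (k := 1) TB_n_ok (by norm_num) (by decide +kernel)

theorem TB_fin : finB 2 TB_n [2,4,5,6,7] 2 (runH 2 TB_n (fun x p => ptInv (nth Net.nil TB_n x) p) iv TB_R [] ([4,5,6,7].map fun x => [x]) 0 []
  [1,5,9,13,0,12,16,28]
  (defsH 2 TB_n (ones 24) [2] (Nat.shiftLeft 1 0) 0)) = true := by decide +kernel

theorem TB_idx : Idx.{u} iv (TB_R ++ []) ([4,5,6,7].map fun x => [x]) [2,4,5,6,7] 2 :=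
  Reach.idx TB_n_ok (reach_runH TB_n_ok (fun x p _ => ptInv_gp TB_n_ok x p) TB_n_rel (reach_defsH TB_n_ok _ _ _ _ _ _) _ _) TB_fin (by norm_num)

end Cfsg.Lib.Comp.The
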